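import Groth.Agent.Sga67.PushFlat
import Groth.Agent.Ega3B.FlatSec
import Groth.Agent.S0007

/-!
# Direct image of a quasi-coherent module flat over the base, along a morphism of affine schemes
-/

set_option autoImplicit false

universe u

open CategoryTheory CategoryTheory.Limits AlgebraicGeometry

namespace Groth.Agent.Htor.H254.FlatPushAff

/-- A quasi-coherent module with flat sections over an affine open is flat at the points of this open. -/
theorem isFlatAt_of_flat_sections {S : Scheme.{u}} (N : S.Modules) (hN : Coh.IsQCoh N) {V : S.Opens}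
    (hV : IsAffineOpen V) (h : Module.Flat Γ(S, V) Γ(N, V)) (x : S) (hx : x ∈ V) :
    FlatMod.IsFlatAt N x := by
  letI m2 : Module Γ(S, V) (N.presheaf.stalk x) := Groth.Agent.Fdesc.QCohStalk.stalkModule N x hx
  haveI := Groth.Agent.Fdesc.QCohStalk.isLocalizedModule_germ N hV hN x hx
  have h1 : Module.Flat Γ(S, V) (N.presheaf.stalk x) :=
    Groth.Agent.Ega3B.FlatSec.flat_of_isLocalizedModule (A := Γ(S, V))
      (hV.primeIdealOf ⟨x, hx⟩).asIdeal.primeCompl (Groth.Agent.Fdesc.QCohStalk.germₗ N x hx)
  letI : Algebra Γ(S, V) (S.presheaf.stalk x) := (S.presheaf.germ V x hx).hom.toAlgebra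
  haveI := hV.isLocalization_stalk ⟨x, hx⟩
  haveI : IsScalarTower Γ(S, V) (S.presheaf.stalk x) (N.presheaf.stalk x) := ⟨fun a b m => by
    change (S.presheaf.germ V x hx a * b) • m = S.presheaf.germ V x hx a • b • m
    rw [mul_smul]⟩
  exact (Module.flat_iff_of_isLocalization (S.presheaf.stalk x)
    (hV.primeIdealOf ⟨x, hx⟩).asIdeal.primeCompl _).mpr h1

/-- Direct image of a quasi-coherent module flat over the base along a morphism of affine schemes. -/
theorem isFlat_pushforward {X S : Scheme.{u}} [IsAffine X] [IsAffine S] (f : X ⟶ S)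
    (F : X.Modules) (hF : Coh.IsQCoh F) (hfl : FlatMod.IsFlatOver f F) :
    FlatMod.IsFlat ((Scheme.Modules.pushforward f).obj F) := by
  have := hF
  have h1 := Groth.Agent.Sga67.PushFlat.flat_sections f F hF hfl
    (fun q hq => Groth.Agent.S0007.result X F q hq)
  exact fun x => isFlatAt_of_flat_sections _ (Groth.Agent.Ega1.QcqsPush.isQCoh_pushforward f F hF)
    (isAffineOpen_top S) h1 x trivial

end Groth.Agent.Htor.H254.FlatPushAff
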