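import Groth.Agent.PerfB.BCTens340
import Groth.Agent.PerfB.BCFrozen280
import Groth.Agent.Htor.H254.FlatPushAff

/-!
# Derived base change for a bounded above complex of quasi-coherent modules flat over the base
-/

set_option autoImplicit false

universe u

open CategoryTheory CategoryTheory.Limits AlgebraicGeometry Pretriangulated

attribute [local instance] HasDerivedCategory.standard

namespace Groth.Agent.Htor.H254.FlatBC

open Groth.Agent.PerfB.BCTot Groth.Agent.PerfB.BCTot.Tot Groth.Agent.PerfB.BCMod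
  Groth.Agent.PerfB.BCCx Groth.Agent.PerfB.BCSch Groth.Agent.PerfB.BCPush Groth.Agent.PerfB.BCAdapt
  Groth.Agent.PerfB.BCMV Groth.Agent.PerfB.BCLoc Groth.Agent.PerfB.BCAffTens
  Groth.Agent.PerfB.BCTens340 Groth.Agent.PerfB

attribute [local instance] hasLpull Groth.Agent.Dcoh.DerSch.hasRpush

/-- The direct image of a bounded above complex of quasi-coherent modules flat over the base, along a morphism of
affine schemes, is K-flat. -/
theorem isKFlat_push {X S : Scheme.{u}} [IsAffine X] [IsAffine S] (f : X ⟶ S)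
    (P : CochainComplex X.Modules ℤ) (hq : ∀ i : ℤ, Coh.IsQCoh (P.X i)) (b : ℤ)
    (hb : ∀ i : ℤ, b < i → IsZero (P.X i)) (hfl : ∀ i : ℤ, FlatMod.IsFlatOver f (P.X i)) :
    DCoh.IsKFlat ((pushCx f).obj P) := by
  have : CochainComplex.IsStrictlyLE ((pushCx f).obj P) b := by
    rw [CochainComplex.isStrictlyLE_iff]
    intro i hi
    exact (Scheme.Modules.pushforward f).map_isZero (hb i hi)
  exact Groth.Agent.Dcoh.KFlatMod.isKFlat_of_isStrictlyLE _ b fun n =>
    FlatPushAff.isFlat_pushforward f (P.X n) (hq n) (hfl n)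

/-- Base change for affine squares. -/
theorem bc_affine_flat {X X' S S' : Scheme.{u}} {f : X ⟶ S} {f' : X' ⟶ S'} {g : S' ⟶ S} {g' : X' ⟶ X}
    (h : IsPullback g' f' f g) [IsAffine X] [IsAffine S] [IsAffine S']
    (P : CochainComplex X.Modules ℤ) (hq : ∀ i : ℤ, Coh.IsQCoh (P.X i)) (b : ℤ)
    (hb : ∀ i : ℤ, b < i → IsZero (P.X i)) (hfl : ∀ i : ℤ, FlatMod.IsFlatOver f (P.X i)) :
    BC (toD.tot.map (cartLift (P := cxMod.{u}) ⟨X, P⟩ g')) f f' g :=
  bc_affineD h P hq (isIso_lpullCounitQ_app g _ (isKFlat_push f P hq b hb hfl))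

/-- The affine squares inside a given one. -/
theorem affBC_flat {X X' S S' : Scheme.{u}} {f : X ⟶ S} {f' : X' ⟶ S'} {g : S' ⟶ S} {g' : X' ⟶ X}
    (P : CochainComplex X.Modules ℤ) (hq : ∀ i : ℤ, Coh.IsQCoh (P.X i)) (b : ℤ)
    (hb : ∀ i : ℤ, b < i → IsZero (P.X i)) (hfl : ∀ i : ℤ, FlatMod.IsFlatOver f (P.X i)) :
    AffBC (toD.tot.map (cartLift (P := cxMod.{u}) ⟨X, P⟩ g')) f f' g := by
  intro V W V' W' _ _ _ _ a b' a' b'' _ _ _ _ gV fV fV' gW sq e1 e2 e3 e4
  let C₀ : CochainComplex V.Modules ℤ := (pullCx a).obj P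
  let m : (⟨V, C₀⟩ : Tot cxMod.{u}) ⟶ ⟨X, P⟩ := cartLift (P := cxMod.{u}) ⟨X, P⟩ a
  have hm : IsCart m := isCart_cartLift _ _
  obtain ⟨k, hk, hk'⟩ := (isCart_cartLift (P := cxMod.{u}) ⟨X, P⟩ g').lift
    (cartLift (P := cxMod.{u}) ⟨V, C₀⟩ gV ≫ m) a' e3.symm
  have ck : IsCart k := by
    rw [← isCart_comp_iff (isCart_cartLift (P := cxMod.{u}) ⟨X, P⟩ g'), hk']
    exact (isCart_cartLift _ _).comp hm
  have H := bc_affine_flat sq C₀ (fun i => VarietyB.PullSec.isQCoh_pullback a _ (hq i)) b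
    (fun i hi => (Scheme.Modules.pullback a).map_isZero (hb i hi))
    (fun i => isFlatOver_pull f fV a b' e1.symm (P.X i) (hfl i))
  subst hk
  have f1 : Flat m.base := inferInstanceAs (Flat a)
  have f2 : Flat k.base := inferInstance
  refine BCres.of_exists _ (a := toD.tot.map m) (a' := toD.tot.map k)
    (θ₀ := toD.tot.map (cartLift (P := cxMod.{u}) ⟨V, C₀⟩ gV)) rfl rfl rfl
    (isCart_toD_of_flat hm) (isCart_toD_of_flat ck) ?_ H
  have h5 := congrArg (fun t => toD.tot.map t) hk'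
  simp only [Functor.map_comp] at h5
  exact h5.symm

/-- **Derived base change** for a bounded above complex of quasi-coherent modules flat over the base, in terms of
arrows. -/
theorem bc_flatCx {X X' S S' : Scheme.{u}} {f : X ⟶ S} {f' : X' ⟶ S'} {g : S' ⟶ S} {g' : X' ⟶ X}
    [QuasiCompact f] [QuasiSeparated f] (sq : IsPullback g' f' f g)
    (P : CochainComplex X.Modules ℤ) (hq : ∀ i : ℤ, Coh.IsQCoh (P.X i)) (b : ℤ)
    (hb : ∀ i : ℤ, b < i → IsZero (P.X i)) (hfl : ∀ i : ℤ, FlatMod.IsFlatOver f (P.X i)) :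
    BC (toD.tot.map (cartLift (P := cxMod.{u}) ⟨X, P⟩ g')) f f' g :=
  bc_of_affBC sq _ rfl (affBC_flat P hq b hb hfl)

end Groth.Agent.Htor.H254.FlatBC

namespace Groth.Agent.Htor.H254.FlatBC

open Groth.Agent.PerfB.BCSch Groth.Agent.PerfB.BCAdapt

/-- **Derived base change** `Lg^* Rf_* P ≅ Rf'_* g'^* P` for a bounded above complex `P` of quasi-coherent modules
flat over the base. -/
theorem nonempty_iso {X X' S S' : Scheme.{u}} {f : X ⟶ S} {f' : X' ⟶ S'} {g : S' ⟶ S} {g' : X' ⟶ X}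
    [QuasiCompact f] [QuasiSeparated f] (sq : IsPullback g' f' f g)
    (P : CochainComplex X.Modules ℤ) (hq : ∀ i : ℤ, Coh.IsQCoh (P.X i)) (b : ℤ)
    (hb : ∀ i : ℤ, b < i → IsZero (P.X i)) (hfl : ∀ i : ℤ, FlatMod.IsFlatOver f (P.X i))
    [DCoh.HasRpush f] [DCoh.HasRpush f'] [DCoh.HasLpull g] :
    Nonempty ((DCoh.Lpull g).obj ((DCoh.Rpush f).obj (DCoh.toD X P)) ≅
      (DCoh.Rpush f').obj (DCoh.toD X' (((Scheme.Modules.pullback g').mapHomologicalComplex
        (ComplexShape.up ℤ)).obj P))) :=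
  Groth.Agent.PerfB.BCFrozen280.nonempty_iso_of_bc sq.w _ rfl (bc_flatCx sq P hq b hb hfl)

end Groth.Agent.Htor.H254.FlatBC
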